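import Cfsg.Agent.H97.Co1Set

/-! Products of elements of `Co0` in packed form. -/

set_option autoImplicit false

namespace Cfsg.Agent.H97

open Cfsg Finset Cfsg.Agent.H14 Cfsg.Agent.H15

/-- eight times the matrix of `g` -/
def en (g : Co0) (i j : ℕ) : ℤ := ((g • e8 (pt j) : leechLattice) : Vec) (pt i)

theorem en_bd (g : Co0) (i j : ℕ) : -8 ≤ en g i j ∧ en g i j ≤ 8 := by
  have h : ∑ p, ((g • e8 (pt j) : leechLattice) : Vec) p ^ 2 = 64 := (co0_norm g _).trans (sqNorm_e8 _)
  have h2 : en g i j ^ 2 ≤ 64 := h ▸ single_le_sum (fun p _ => sq_nonneg _) (mem_univ (pt i))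
  constructor <;> nlinarith

/-- a row of the packed matrix -/
noncomputable def rowC (g : Co0) (i : ℕ) : ℕ := pack 6 24 fun j => (en g i j + 32).toNat

/-- the packed matrix of `g` -/
noncomputable def pkC (g : Co0) : ℕ := pack 144 24 (rowC g)

theorem toNat_lt (g : Co0) (i j : ℕ) : (en g i j + 32).toNat < 2 ^ 6 := by
  have := en_bd g i j; omega

theorem row_pkC (g : Co0) {i : ℕ} (hi : i < 24) : row (pkC g) i = rowC g i :=
  app_pack (k := 144) (fun i _ => pack_lt fun j _ => toNat_lt g i j) hi

theorem dg_rowC (g : Co0) (i : ℕ) {j : ℕ} (hj : j < 24) : (dg (rowC g i) j : ℤ) = en g i j + 32 := by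
  have h : dg (rowC g i) j = app 6 (2 ^ 6) (rowC g i) j := Nat.and_two_pow_sub_one_eq_mod _ 6
  have := en_bd g i j
  rw [h, rowC, app_pack (fun j _ => toNat_lt g i j) hj]
  omega

theorem rowC_cast (g : Co0) (i : ℕ) :
    (rowC g i : ℤ) = ∑ j ∈ range 24, (en g i j + 32) * 2 ^ (6 * j) := by
  rw [rowC, pack_eq_sum]
  push_cast
  exact sum_congr rfl fun j _ => by rw [Int.toNat_of_nonneg (by have := en_bd g i j; omega)]

theorem mat_pkC (g : Co0) (p q : GolayPt) : mat (pkC g) p q = ((g • e8 q : leechLattice) : Vec) p := by
  rw [mat, vec, ent_eq, row_pkC g (idx_lt p), dg_rowC g _ (idx_lt q), en, pt_idx, pt_idx]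
  ring

theorem isMat_pkC (g : Co0) : IsMat g (pkC g) 8 := ⟨by norm_num, fun v i => by
  simp only [mat_pkC, mul_comm _ ((v : Vec) _)]
  exact eight_mul_smul_apply g v i⟩

theorem pkC_inj {g h : Co0} : pkC g = pkC h ↔ g = h :=
  ⟨fun e => co0_ext_e8 fun q => Subtype.ext (funext fun p => by rw [← mat_pkC, e, mat_pkC]),
    congrArg pkC⟩

theorem en_mul (g h : Co0) (i j : ℕ) :
    8 * en (g * h) i j = ∑ k ∈ range 24, en g i k * en h k j := by
  rw [en, mul_smul, eight_mul_smul_apply, ← sum_idx fun k => en g i k * en h k j]
  simp only [en, pt_idx, mul_comm]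

/-- all digits equal to 32 -/
def offC : ℕ := nat_lit 0x820820820820820820820820820820820820

theorem offC_cast : (offC : ℤ) = ∑ j ∈ range 24, 32 * 2 ^ (6 * j) := by decide +kernel

/-- the packed product -/
noncomputable def mulC (A B : ℕ) : ℕ :=
  force (Nat.mul (nat_lit 32) (sumN (nat_lit 24) (row B))) fun S =>
    pack (nat_lit 144) (nat_lit 24) fun i => force (row A i) fun R =>
      Nat.div (Nat.sub (Nat.add (sumN (nat_lit 24) fun k => Nat.mul (dg R k) (row B k))
        (Nat.mul (nat_lit 776) offC)) (Nat.add S (Nat.mul offC (sD R)))) (nat_lit 8)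

theorem pkC_mul (g h : Co0) : pkC (g * h) = mulC (pkC g) (pkC h) := by
  rw [mulC, force_eq]
  refine pack_congr fun i hi => ?_
  rw [force_eq, row_pkC g hi, sD, sumN_eq, sumN_eq, sumN_eq]
  have e : (∑ k ∈ range 24, dg (rowC g i) k * row (pkC h) k + 776 * offC : ℕ) =
      32 * ∑ k ∈ range 24, row (pkC h) k + offC * ∑ k ∈ range 24, dg (rowC g i) k +
        8 * rowC (g * h) i := by
    have e1 : ∀ k ∈ range 24, (row (pkC h) k : ℤ) = ∑ j ∈ range 24, (en h k j + 32) * 2 ^ (6 * j) :=
      fun k hk => by rw [row_pkC h (mem_range.1 hk), rowC_cast]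
    have e2 : ∀ k ∈ range 24, (dg (rowC g i) k : ℤ) = en g i k + 32 :=
      fun k hk => dg_rowC g i (mem_range.1 hk)
    zify
    rw [sum_congr rfl fun k hk => by rw [e1 k hk, e2 k hk], sum_congr rfl e1, sum_congr rfl e2,
      rowC_cast, offC_cast]
    simp only [mul_sum, sum_mul]
    rw [sum_comm, sum_comm (s := range 24) (f := fun k j => 32 * ((en h k j + 32) * 2 ^ (6 * j))),
      sum_comm (s := range 24) (f := fun k j => 32 * 2 ^ (6 * j) * (en g i k + 32)),
      ← sum_add_distrib, ← sum_add_distrib, ← sum_add_distrib]
    refine sum_congr rfl fun j _ => ?_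
    have e3 : ∀ k, (en g i k + 32) * ((en h k j + 32) * 2 ^ (6 * j)) =
        32 * ((en h k j + 32) * 2 ^ (6 * j)) + 32 * 2 ^ (6 * j) * (en g i k + 32) +
          (en g i k * en h k j * 2 ^ (6 * j) - 1024 * 2 ^ (6 * j)) := fun k => by ring
    simp only [e3, sum_add_distrib, sum_sub_distrib, ← sum_mul, ← en_mul, sum_const, card_range]
    ring
  change _ = (_ + 776 * offC - (32 * _ + offC * _)) / 8
  exact (by rw [e, Nat.add_sub_cancel_left, Nat.mul_div_cancel_left _ (by norm_num)] :
    (∑ k ∈ range 24, dg (rowC g i) k * row (pkC h) k + 776 * offC -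
      (32 * ∑ k ∈ range 24, row (pkC h) k + offC * ∑ k ∈ range 24, dg (rowC g i) k)) / 8 = _).symm

/-- the packed monomial matrix -/
noncomputable def monoC (m P : ℕ) : ℕ := pack (nat_lit 144) (nat_lit 24) fun i =>
  pack (nat_lit 6) (nat_lit 24) fun j => Bool.rec (nat_lit 32)
    (Bool.rec (nat_lit 40) (nat_lit 24) (tb m i)) (Nat.beq (app (nat_lit 5) (nat_lit 32) P j) i)

theorem pkC_mono {m : ℕ} (hm : IsCw (bits m)) (σ : M24) :
    pkC (signC _ hm * permC σ) = monoC m (GE.pk σ) := by
  refine pack_congr fun i hi => pack_congr fun j hj => ?_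
  have e1 : app (nat_lit 5) (nat_lit 32) (GE.pk σ) j = idx ((σ : Equiv.Perm GolayPt) (pt j)) :=
    GE.app_pk_of_lt _ hj
  have e2 : tb m i = decide (pt i ∈ bits m) := by
    rw [tb_eq, Bool.eq_iff_iff, decide_eq_true_iff, mem_bits, idx_pt hi]
  rw [en, mul_smul, permC_smul_e8, signC_apply, e8_val, e1, e2]
  by_cases e : (σ : Equiv.Perm GolayPt) (pt j) = pt i
  · rw [e, idx_pt hi, Nat.beq_refl, Pi.single_eq_same]
    by_cases e' : pt i ∈ bits m <;> simp only [e', if_true, if_false, decide_true, decide_false] <;> rfl
  · have e3 : Nat.beq (idx ((σ : Equiv.Perm GolayPt) (pt j))) i = false :=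
      Bool.eq_false_iff.2 fun h => e (by rw [← beq_iff.1 h, pt_idx])
    rw [Pi.single_eq_of_ne (Ne.symm e), e3, neg_zero, ite_self]
    rfl

/-- the packed identity -/
@[irreducible] def idC : ℕ := nat_lit 0xa20820820820820820820820820820820820828820820820820820820820820820820820820a20820820820820820820820820820820820828820820820820820820820820820820820820a20820820820820820820820820820820820828820820820820820820820820820820820820a20820820820820820820820820820820820828820820820820820820820820820820820820a20820820820820820820820820820820820828820820820820820820820820820820820820a20820820820820820820820820820820820828820820820820820820820820820820820820a20820820820820820820820820820820820828820820820820820820820820820820820820a20820820820820820820820820820820820828820820820820820820820820820820820820a20820820820820820820820820820820820828820820820820820820820820820820820820a20820820820820820820820820820820820828820820820820820820820820820820820820a20820820820820820820820820820820820828820820820820820820820820820820820820a20820820820820820820820820820820820828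

theorem pkC_one : pkC 1 = idC := by
  have h := pkC_mono (m := 0) (isCw_bits (by decide +kernel)) 1
  rw [permC_one, mul_one, signC_congr (hd := isCw_empty) bits_zero, signC_empty] at h
  exact h.trans ((congrArg (monoC 0) GE.pk_one).trans (by decide +kernel))

/-- all digits equal to 64 -/
@[irreducible] def totC : ℕ := nat_lit 0x1041041041041041041041041041041041041041041041041041041041041041041041041041041041041041041041041041041041041041041041041041041041041041041041041041041041041041041041041041041041041041041041041041041041041041041041041041041041041041041041041041041041041041041041041041041041041041041041041041041041041041041041041041041041041041041041041041041041041041041041041041041041041041041041041041041041041041041041041041041041041041041041041041041041041041041041041041041041041041041041041041041041041041041041041041041041041041041041041041041041041041041041041041041041041041041041041041041041041041041041041041041041041041041041041041041041041041041041041041041041041041041041041041041041041041041041041041041041041041041041041041041041041041041041041041041041041041041041041041041041041041041041041041041041041041041041041041041041041041041041041041041041041041041041040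

theorem pkC_neg (g : Co0) : pkC g + pkC (negC * g) = totC := by
  have hr : ∀ i, rowC g i + rowC (negC * g) i = 2 * offC := fun i => by
    zify
    rw [rowC_cast, rowC_cast, offC_cast, ← sum_add_distrib, mul_sum]
    refine sum_congr rfl fun j _ => ?_
    rw [show en (negC * g) i j = -en g i j by rw [en, mul_smul, negC_smul]; rfl]
    ring
  have e : pack 144 24 (fun _ => 2 * offC) = totC := by decide +kernel
  rw [← e, pack_eq_sum, pkC, pack_eq_sum, pkC, pack_eq_sum, ← sum_add_distrib]
  exact sum_congr rfl fun i _ => by rw [← add_mul, hr]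

/-- equality up to sign -/
def eqC (A B : ℕ) : Bool := Nat.beq A B || Nat.beq (Nat.add A B) totC

theorem eqC_iff {g h : Co0} : eqC (pkC g) (pkC h) = true ↔ prC g = prC h := by
  rw [eqC, Bool.or_eq_true, beq_iff, beq_iff, ← pkC_neg g, pkC_inj]
  exact (or_congr eq_comm ((Nat.add_left_cancel_iff).trans pkC_inj)).trans co1_eq_iff.symm

/-- `A` is the packed matrix of an element of `Co0` -/
noncomputable def okC (A : ℕ) : Bool := coOK A (nat_lit 8) && Nat.beq (pack (nat_lit 144) (nat_lit 24)
  fun i => force (row A i) fun R => pack (nat_lit 6) (nat_lit 24) (dg R)) A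

theorem exists_pkC {A : ℕ} (h : okC A = true) : ∃ g, pkC g = A := by
  rw [okC, Bool.and_eq_true, beq_iff] at h
  obtain ⟨g, hg⟩ := exists_isMat h.1
  refine ⟨g, Eq.trans (pack_congr fun i hi => ?_) h.2⟩
  rw [force_eq]
  refine pack_congr fun j hj => ?_
  have := hg.2 (e8 (pt j)) (pt i)
  simp only [e8_val, Pi.single_apply, mul_ite, mul_zero, sum_ite_eq', mem_univ, if_true, mat, vec,
    ent_eq, idx_pt hi, idx_pt hj] at this
  change (8 : ℕ) * en g i j = _ at this
  omega

/-- the packed matrix of Conway's extra generator -/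
@[irreducible] def xiC : ℕ := nat_lit 0x72082082082082082082082082082082492482482082081c82072082082082081c82082082092072082082082082082071c82082082082082482082072082081c72082082082082082072092082082082082082071c82082082082082082482082081c72081c82082082082082082082092081c82082082082072072082081c82082082482072082082082081c82082082081c82082092082081c72082082082082082082082072082482082082082072072082081c82082081c82092082082082081c82082082082081c82082082472081c82082082082082082081c82082081c92081c82082082082082081c82082072082082472082082082082082081c82082072082081c92082082082082082082081c82082081c72082482082082082082072072082082082082082091c82082082082072072082082082082082072482082082082082082072081c82082082082092072082081c82082081c82072082082082082482082082082082072081c82082082082072092082092082082082082082082082082082081c92492082082082082082082082082082082472492082082082082082082082082082082491c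

/-- the product `m₀ ξ m₁ ξ ⋯` of monomial matrices and the extra generator -/
noncomputable def xwC (w : List (ℕ × ℕ)) : ℕ := List.rec idC (fun p _ ih => force ih fun X =>
  force (mulC xiC X) fun Y => force (monoC p.1 p.2) fun A => mulC A Y) w

/-- the words are valid and their values form the list `Ms` -/
noncomputable def okW (Ms : List ℕ) (Ws : List (List (ℕ × ℕ))) : Bool :=
  allL Ws (fun w => allL w fun p => Nat.beq (enc p.1) p.1 &&
    valid (nat_lit 5) (nat_lit 32) (nat_lit 24) p.2 &&
    sift (nat_lit 5) (nat_lit 32) (nat_lit 24) m24CertL p.2) && decide (Ws.map xwC = Ms)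

theorem ok_of_okW {Ms : List ℕ} {Ws : List (List (ℕ × ℕ))} (h : okW Ms Ws = true) :
    ∀ A ∈ Ms, ∃ g, pkC g = A := by
  simp only [okW, Bool.and_eq_true, allL_iff, decide_eq_true_iff, beq_iff] at h
  obtain ⟨h, rfl⟩ := h
  obtain ⟨x, hx⟩ := exists_pkC (A := xiC) (by decide +kernel)
  simp only [List.forall_mem_map]
  intro w hw
  have h := h w hw
  clear hw
  induction w with
  | nil => exact ⟨1, pkC_one⟩
  | cons p w ih =>
    obtain ⟨g, hg⟩ := ih fun q hq => h q (List.mem_cons_of_mem _ hq)
    obtain ⟨⟨h1, h2⟩, h3⟩ := h p List.mem_cons_self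
    obtain ⟨σ, hσ, e⟩ := m24_chain.inG_of_sift h2 h3
    have e2 : xwC (p :: w) = force (xwC w) fun X => force (mulC xiC X) fun Y =>
      force (monoC p.1 p.2) fun A => mulC A Y := rfl
    exact ⟨signC _ (isCw_bits h1) * permC ⟨σ, hσ⟩ * (x * g), by
      rw [pkC_mul, pkC_mul x, pkC_mono, hx, hg, e2, force_eq, force_eq, force_eq, e]⟩

open Classical in
/-- the element number `i` of a list of packed matrices -/
noncomputable def elC (Ms : List ℕ) (i : ℕ) : Co0 :=
  if h : ∃ g, pkC g = nthD Ms idC i then h.choose else 1

/-- the packed value of a word -/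
noncomputable def wC (Ms w : List ℕ) : ℕ :=
  List.rec idC (fun c _ ih => force ih fun X => force (nthD Ms idC c) fun A => mulC A X) w

section
variable {Ms : List ℕ} (h : ∀ A ∈ Ms, ∃ g, pkC g = A)
include h

theorem pkC_elC (i : ℕ) : pkC (elC Ms i) = nthD Ms idC i := by
  have : ∃ g, pkC g = nthD Ms idC i := (nthD_mem_or Ms idC i).elim (h _)
    fun e => ⟨1, pkC_one.trans e.symm⟩
  rw [elC, dif_pos this]
  exact this.choose_spec

theorem pkC_word (w : List ℕ) : pkC (w.map (elC Ms)).prod = wC Ms w := by
  induction w with
  | nil => exact pkC_one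
  | cons c w ih =>
    have e : wC Ms (c :: w) = force (wC Ms w) fun X => force (nthD Ms idC c) fun A => mulC A X := rfl
    rw [List.map_cons, List.prod_cons, pkC_mul, ih, pkC_elC h, e, force_eq, force_eq]

theorem rel0 {u w : List ℕ} :
    Nat.beq (wC Ms u) (wC Ms w) = true ↔ (u.map (elC Ms)).prod = (w.map (elC Ms)).prod := by
  rw [beq_iff, ← pkC_word h, ← pkC_word h, pkC_inj]

theorem rel1 {u w : List ℕ} : eqC (wC Ms u) (wC Ms w) = true ↔
    (u.map fun i => prC (elC Ms i)).prod = (w.map fun i => prC (elC Ms i)).prod := by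
  rw [← pkC_word h, ← pkC_word h, eqC_iff, map_list_prod, map_list_prod, List.map_map, List.map_map]
  rfl

theorem rels0 {l : List (List ℕ × List ℕ)}
    (e : allL l (fun p => Nat.beq (wC Ms p.1) (wC Ms p.2)) = true) :
    ∀ p ∈ l, (p.1.map (elC Ms)).prod = (p.2.map (elC Ms)).prod :=
  fun p hp => (rel0 h).1 (allL_iff.1 e p hp)

theorem rels1 {l : List (List ℕ × List ℕ)}
    (e : allL l (fun p => eqC (wC Ms p.1) (wC Ms p.2)) = true) : ∀ p ∈ l,
      (p.1.map fun i => prC (elC Ms i)).prod = (p.2.map fun i => prC (elC Ms i)).prod :=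
  fun p hp => (rel1 h).1 (allL_iff.1 e p hp)

theorem nrels1 {l : List (List ℕ × List ℕ)}
    (e : allL l (fun p => !eqC (wC Ms p.1) (wC Ms p.2)) = true) : ∀ p ∈ l,
      (p.1.map fun i => prC (elC Ms i)).prod ≠ (p.2.map fun i => prC (elC Ms i)).prod :=
  fun p hp e' => by simpa [(rel1 h).2 e'] using allL_iff.1 e p hp

theorem elC_mono {i m P : ℕ} (hm : IsCw (bits m)) {σ : M24} (hσ : GE.pk σ = P)
    (e : Nat.beq (nthD Ms idC i) (monoC m P) = true) : elC Ms i = signC _ hm * permC σ := by
  rw [← pkC_inj, pkC_elC h, pkC_mono, hσ, beq_iff.1 e]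

/-- membership in the extraspecial group -/
theorem elC_mem_QQ {i m P : ℕ} (e : (Nat.beq (enc m) m && Nat.beq (Nat.land m 8241104) m &&
    valid (nat_lit 5) (nat_lit 32) (nat_lit 24) P &&
    sift (nat_lit 5) (nat_lit 32) (nat_lit 24) [m24CertL6] P &&
    Nat.beq (nthD Ms idC i) (monoC m P)) = true) : elC Ms i ∈ QQ := by
  simp only [Bool.and_eq_true, beq_iff] at e
  obtain ⟨⟨⟨⟨h1, h2⟩, h3⟩, h4⟩, h5⟩ := e
  obtain ⟨σ, hσ, e⟩ := T6_chain.inG_of_sift h3 h4
  exact ⟨_, isCw_bits h1, ⟨σ, T6_le hσ⟩, bits_subset_of_and h2, hσ, elC_mono h _ e (beq_iff.2 h5)⟩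

end

end Cfsg.Agent.H97
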