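import Cfsg.Prelude.Def_Sporadic_a

/-! Binary codes of length 24, dimension 12 and minimum weight at least 8: coset counting. -/

set_option autoImplicit false

namespace Cfsg.Agent.H97

open Finset

abbrev W24 : Type := Fin 24 → ZMod 2

theorem z2_cases (s : ZMod 2) : s = 0 ∨ s = 1 := by revert s; decide

theorem hn_eq (w : W24) : hammingNorm w = (support₂ w).card := rfl

theorem mem_supp {w : W24} {i : Fin 24} : i ∈ support₂ w ↔ w i = 1 := by
  rcases z2_cases (w i) with h | h <;> simp [support₂, h]

/-- the word with a given support -/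
def wd (s : Finset (Fin 24)) : W24 := fun i => if i ∈ s then 1 else 0

theorem supp_wd (s : Finset (Fin 24)) : support₂ (wd s) = s := by
  ext i; rw [mem_supp, wd]; split_ifs with h <;> simp [h]

theorem wd_supp (w : W24) : wd (support₂ w) = w := by
  funext i; rw [wd]; rcases z2_cases (w i) with h | h <;> simp [mem_supp, h]

theorem supp_inj {u v : W24} (h : support₂ u = support₂ v) : u = v := by
  rw [← wd_supp u, h, wd_supp]

theorem supp_add (u v : W24) : support₂ (u + v) = symmDiff (support₂ u) (support₂ v) := by
  ext i
  rcases z2_cases (u i) with h | h <;> rcases z2_cases (v i) with h' | h' <;>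
    simp [mem_symmDiff, mem_supp, h, h']

theorem sub_eq_add' (u v : W24) : u - v = u + v := by
  funext i; simp [sub_eq_add_neg, ZMod.neg_eq_self_mod_two]

theorem hn_add (u v : W24) : hammingNorm (u + v) + 2 * (support₂ u ∩ support₂ v).card =
    hammingNorm u + hammingNorm v := by
  rw [hn_eq, hn_eq, hn_eq, supp_add, symmDiff_def, sup_eq_union,
    card_union_of_disjoint disjoint_sdiff_sdiff, ← card_sdiff_add_card_inter (support₂ u) (support₂ v),
    ← card_sdiff_add_card_inter (support₂ v) (support₂ u), inter_comm (support₂ v)]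
  ring

theorem card_weight (k : ℕ) : (univ.filter fun u : W24 => hammingNorm u = k).card = Nat.choose 24 k := by
  have : (powersetCard k (univ : Finset (Fin 24))).card = Nat.choose 24 k := by simp
  rw [← this]
  apply card_nbij' support₂ wd
  · intro u hu
    simp only [coe_filter, mem_univ, true_and, Set.mem_ofPred_eq] at hu
    simp [mem_powersetCard, ← hn_eq, hu]
  · intro s hs
    simp only [mem_coe, mem_powersetCard] at hs
    simp only [coe_filter, mem_univ, true_and, Set.mem_ofPred_eq]
    rw [hn_eq, supp_wd]; exact hs.2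
  · intro u _; exact wd_supp u
  · intro s _; exact supp_wd s

variable {C : Submodule (ZMod 2) W24}

theorem close_words (hmin : ∀ w ∈ C, w ≠ 0 → 8 ≤ hammingNorm w) {u v : W24} (huv : u - v ∈ C)
    (hne : u ≠ v) (hu : hammingNorm u ≤ 4) (hv : hammingNorm v ≤ 4) :
    hammingNorm u = 4 ∧ hammingNorm v = 4 ∧ Disjoint (support₂ u) (support₂ v) := by
  have h1 := hmin _ huv (sub_ne_zero.mpr hne)
  rw [sub_eq_add'] at h1
  have h2 := hn_add u v
  refine ⟨by omega, by omega, ?_⟩
  rw [disjoint_iff_inter_eq_empty, ← card_eq_zero]; omega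

open Classical in
theorem coset_count (hdim : Module.finrank (ZMod 2) C = 12)
    (hmin : ∀ w ∈ C, w ≠ 0 → 8 ≤ hammingNorm w) (w : W24) :
    6 * (univ.filter fun u : W24 => u - w ∈ C ∧ hammingNorm u ≤ 3).card +
      (univ.filter fun u : W24 => u - w ∈ C ∧ hammingNorm u = 4).card = 6 := by
  have hle : ∀ w : W24, 6 * (univ.filter fun u : W24 => u - w ∈ C ∧ hammingNorm u ≤ 3).card +
      (univ.filter fun u : W24 => u - w ∈ C ∧ hammingNorm u = 4).card ≤ 6 := by
    intro w
    have hd : ∀ u v : W24, u - w ∈ C → v - w ∈ C → u - v ∈ C := fun u v hu hv => by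
      have := C.sub_mem hu hv
      rwa [sub_sub_sub_cancel_right] at this
    by_cases hA : ∃ u, u - w ∈ C ∧ hammingNorm u ≤ 3
    · obtain ⟨u, hu, hu3⟩ := hA
      have h1 : (univ.filter fun u : W24 => u - w ∈ C ∧ hammingNorm u ≤ 3).card ≤ 1 := by
        rw [card_le_one]
        intro a ha b hb
        simp only [mem_filter, mem_univ, true_and] at ha hb
        by_contra hne
        have := (close_words hmin (hd a b ha.1 hb.1) hne (by omega) (by omega)).1
        omega
      have h2 : (univ.filter fun u : W24 => u - w ∈ C ∧ hammingNorm u = 4).card = 0 := by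
        rw [card_eq_zero, filter_eq_empty_iff]
        rintro a - ⟨ha, ha4⟩
        have hne : u ≠ a := by rintro rfl; omega
        have := (close_words hmin (hd u a hu ha) hne (by omega) (by omega)).1
        omega
      omega
    · have h1 : (univ.filter fun u : W24 => u - w ∈ C ∧ hammingNorm u ≤ 3).card = 0 := by
        rw [card_eq_zero, filter_eq_empty_iff]
        intro a _ ha
        exact hA ⟨a, ha⟩
      have h2 := card_biUnion (s := univ.filter fun u : W24 => u - w ∈ C ∧ hammingNorm u = 4)
        (t := support₂) (by
          intro a ha b hb hne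
          simp only [coe_filter, mem_univ, true_and, Set.mem_ofPred_eq] at ha hb
          exact (close_words hmin (hd a b ha.1 hb.1) hne ha.2.le hb.2.le).2.2)
      rw [sum_congr rfl (g := fun _ => 4) (fun u hu => (mem_filter.mp hu).2.2), sum_const,
        smul_eq_mul] at h2
      have h3 := card_le_univ ((univ.filter fun u : W24 => u - w ∈ C ∧ hammingNorm u = 4).biUnion
        support₂)
      rw [Fintype.card_fin] at h3
      omega
  have hcardC : (univ.filter fun w : W24 => w ∈ C).card = 4096 := by
    have := Module.card_eq_pow_finrank (K := ZMod 2) (V := C)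
    rw [hdim, ZMod.card, Fintype.card_subtype] at this
    exact this
  have hfib : ∀ u : W24, (univ.filter fun w : W24 => u - w ∈ C).card = 4096 := by
    intro u
    rw [← hcardC]
    apply card_nbij' (fun w => u - w) (fun w => u - w) <;> intro w hw <;> simp_all
  have hsum : ∀ (P : W24 → Prop) [DecidablePred P], ∑ w : W24, (univ.filter fun u : W24 => u - w ∈ C ∧ P u).card =
      (univ.filter P).card * 4096 := by
    intro P _
    simp only [card_filter]
    rw [sum_comm, sum_mul]
    refine sum_congr rfl fun u _ => ?_
    by_cases hP : P u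
    · simp only [hP, and_true, if_true, one_mul]
      rw [← hfib u, card_filter]
    · simp [hP]
  have h3 : (univ.filter fun u : W24 => hammingNorm u ≤ 3).card = 2325 := by
    rw [card_eq_sum_card_fiberwise (f := hammingNorm) (t := range 4) (by
      intro u hu
      simp only [coe_filter, mem_univ, true_and, Set.mem_ofPred_eq] at hu
      simp; omega)]
    rw [sum_congr rfl (g := fun k => Nat.choose 24 k)]
    · decide
    · intro k hk
      rw [← card_weight k, filter_filter]
      congr 1
      ext u
      simp only [mem_filter, mem_univ, true_and]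
      rw [mem_range] at hk
      omega
  have htot : ∑ w : W24, (6 * (univ.filter fun u : W24 => u - w ∈ C ∧ hammingNorm u ≤ 3).card +
      (univ.filter fun u : W24 => u - w ∈ C ∧ hammingNorm u = 4).card) = ∑ _w : W24, 6 := by
    rw [sum_add_distrib, ← mul_sum, hsum (fun u => hammingNorm u ≤ 3),
      hsum (fun u => hammingNorm u = 4), h3, card_weight 4]
    simp only [sum_const, card_univ, Fintype.card_fun, ZMod.card, Fintype.card_fin, smul_eq_mul]
    norm_num [Nat.choose]
  exact (sum_eq_sum_iff_of_le (fun w _ => hle w)).mp htot w (mem_univ w)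

/-- every five coordinates lie in the support of a word of weight eight -/
theorem exists_octad (hdim : Module.finrank (ZMod 2) C = 12)
    (hmin : ∀ w ∈ C, w ≠ 0 → 8 ≤ hammingNorm w) (s : Finset (Fin 24)) (hs : s.card = 5) :
    ∃ o ∈ C, hammingNorm o = 8 ∧ s ⊆ support₂ o := by
  classical
  obtain ⟨x, hx⟩ : s.Nonempty := card_pos.mp (by omega)
  have ht : hammingNorm (wd (s.erase x)) = 4 := by rw [hn_eq, supp_wd, card_erase_of_mem hx, hs]
  set w := wd (s.erase x) with hw
  have hc := coset_count hdim hmin w
  have h1 : (univ.filter fun u : W24 => u - w ∈ C ∧ hammingNorm u ≤ 3).card = 0 := by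
    rw [card_eq_zero, filter_eq_empty_iff]
    rintro a - ⟨ha, ha3⟩
    have hne : a ≠ w := by rintro rfl; omega
    have := (close_words hmin ha hne (by omega) (by omega)).1
    omega
  have h2 := card_biUnion (s := univ.filter fun u : W24 => u - w ∈ C ∧ hammingNorm u = 4)
    (t := support₂) (by
      intro a ha b hb hne
      simp only [coe_filter, mem_univ, true_and, Set.mem_ofPred_eq] at ha hb
      have := C.sub_mem ha.1 hb.1
      rw [sub_sub_sub_cancel_right] at this
      exact (close_words hmin this hne ha.2.le hb.2.le).2.2)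
  rw [sum_congr rfl (g := fun _ => 4) (fun u hu => (mem_filter.mp hu).2.2), sum_const,
    smul_eq_mul] at h2
  have h3 : (univ.filter fun u : W24 => u - w ∈ C ∧ hammingNorm u = 4).biUnion support₂ = univ := by
    apply eq_univ_of_card
    rw [h2, Fintype.card_fin]
    have : (univ.filter fun u : W24 => u - w ∈ C ∧ hammingNorm u = 4).card = 6 := by
      have hc' := hc
      rw [show (univ.filter fun u : W24 => u - w ∈ C ∧ hammingNorm u ≤ 3).card = 0 by
        convert h1] at hc'
      convert hc'
      simp
    omega
  have hx' : x ∈ (univ.filter fun u : W24 => u - w ∈ C ∧ hammingNorm u = 4).biUnion support₂ := by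
    rw [h3]; exact mem_univ x
  obtain ⟨u, hu, hxu⟩ := mem_biUnion.mp hx'
  simp only [mem_filter, mem_univ, true_and] at hu
  have hne : u ≠ w := by
    rintro rfl
    rw [hw, supp_wd] at hxu
    exact notMem_erase x s hxu
  have hdis := (close_words hmin hu.1 hne hu.2.le ht.le).2.2
  refine ⟨u - w, hu.1, ?_, ?_⟩
  · have := hn_add u w
    rw [disjoint_iff_inter_eq_empty.mp hdis, card_empty] at this
    rw [sub_eq_add']; omega
  · intro y hy
    rw [sub_eq_add', supp_add, mem_symmDiff]
    by_cases hyx : y = x
    · left; subst hyx; exact ⟨hxu, disjoint_left.mp hdis hxu⟩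
    · right
      have : y ∈ support₂ w := by rw [hw, supp_wd]; exact mem_erase.mpr ⟨hyx, hy⟩
      exact ⟨this, disjoint_right.mp hdis this⟩

theorem span_octads (hdim : Module.finrank (ZMod 2) C = 12)
    (hmin : ∀ w ∈ C, w ≠ 0 → 8 ≤ hammingNorm w) :
    Submodule.span (ZMod 2) {w : W24 | w ∈ C ∧ hammingNorm w = 8} = C := by
  apply le_antisymm (Submodule.span_le.mpr fun w hw => hw.1)
  intro w hw
  induction h : hammingNorm w using Nat.strong_induction_on generalizing w with
  | _ n ih =>
    by_cases h0 : w = 0
    · rw [h0]; exact Submodule.zero_mem _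
    have h8 := hmin w hw h0
    obtain ⟨s, hs, h5⟩ := exists_subset_card_eq (s := support₂ w) (n := 5) (by rw [← hn_eq]; omega)
    obtain ⟨o, ho, ho8, hso⟩ := exists_octad hdim hmin s h5
    have h1 := hn_add w o
    have h2 : 5 ≤ (support₂ w ∩ support₂ o).card := h5 ▸ card_le_card (subset_inter hs hso)
    have h3 := ih _ (by omega) (C.add_mem hw ho) rfl
    have h4 := Submodule.sub_mem _ h3 (Submodule.subset_span (s := {w : W24 | w ∈ C ∧ hammingNorm w = 8})
      ⟨ho, ho8⟩)
    rwa [add_sub_cancel_right] at h4

end Cfsg.Agent.H97
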