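import Cfsg.Agent.H97.CoA
import Cfsg.Agent.CO1.Co1Hom
import Cfsg.Agent.CO1.Co1Top
import Cfsg.Agent.H44.Components

/-! The explicit elements in a group of Conway type. -/

set_option autoImplicit false

namespace Cfsg.Agent.H97

open Subgroup H11 H14 H15 CO1

variable {G : Type*} [Group G]

theorem exists_DA [Finite G] {z : G} (h : Co1T G z) :
    ∃ E : ℕ → G, DA E ∧ E 0 = z ∧ Nat.card G = 4157776806543360000 := by
  obtain ⟨ψ, h1, o, ho, h8, h2, h3⟩ := exists_hom_co1 h
  let e := MulEquiv.ofBijective ψ ⟨h1, MonoidHom.range_eq_top.1 (range_eq_top_co1 ψ h1 ho h8 (h2 ▸ h3))⟩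
  obtain ⟨σ, -, h4⟩ := exists_conj_tt ho h8
  exact ⟨_, dA.map ((MulAut.conj (prC (permC σ))).trans e),
    (congrArg ψ (by rw [elA_zero]; exact h4)).trans h2, (Nat.card_congr e.toEquiv).symm.trans card_Co1⟩

theorem DA.conj {E : ℕ → G} (h : DA E) (d : G) : DA fun i => d * E i * d⁻¹ := h.map (MulAut.conj d)

/-- a perfect central extension of a simple group -/
theorem qs_of_ext {S : Type*} [Group S] [IsSimpleGroup S] (hS : ¬ IsMulCommutative S) {f : G →* S}
    (hf : Function.Surjective f) (h1 : f.ker ≤ center G) (h2 : f.ker ≤ _root_.commutator G) :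
    IsQuasisimple G := by
  have h3 : ∀ N : Subgroup G, N.Normal → N ≤ f.ker ∨ N ⊔ f.ker = ⊤ := fun N hN =>
    (hN.map f hf).eq_bot_or_eq_top.imp (Subgroup.map_eq_bot_iff _).1 fun e => by
      rw [← comap_map_eq, e, comap_top]
  have h4 : _root_.commutator G = ⊤ := by
    refine (sup_eq_left.2 h2).symm.trans ((h3 _ inferInstance).resolve_left fun e => hS ⟨⟨fun a b => ?_⟩⟩)
    obtain ⟨a, rfl⟩ := hf a
    obtain ⟨b, rfl⟩ := hf b
    exact commutatorElement_eq_one_iff_mul_comm.1 ((map_commutatorElement f a b).symm.trans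
      (e (commutator_mem_commutator (mem_top a) (mem_top b))))
  refine H44.isQuasisimple_iff.2 ⟨h4, hf.nontrivial, fun N hN => (h3 N hN).symm.imp (fun e => ?_)
    fun e => e.trans h1⟩
  have h5 := H44.commutator_sup_of_centralizes (N := N) (Z := center G)
    (commutator_center_left _) (commutator_center_left _)
  rw [top_le_iff.1 (e.ge.trans (sup_le_sup_left h1 N)), ← _root_.commutator_def, h4] at h5
  exact top_le_iff.1 (h5 ▸ N.commutator_le_self)

end Cfsg.Agent.H97
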